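import Cfsg.Agent.TwoRank.Diag
import Cfsg.Agent.LocalEven61.Yoshida
import Cfsg.Prelude.Def_Transfer
import Cfsg.Agent.Lib.PGroup.Basic
import Mathlib.LinearAlgebra.Matrix.GeneralLinearGroup.Defs

/-!
# A Sylow 2-subgroup inside GL(3, q) containing E8, in a group without index 2 subgroup
-/

set_option autoImplicit false
set_option linter.style.haveILetI false

namespace Cfsg.Agent.DetTransfer

open Matrix
open Cfsg.Agent.LocalEven61

/-- Data extracted from an elementary abelian subgroup of order eight. -/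
theorem eight_data {F : Type*} [Field F] (h2 : (2 : F) ≠ 0) {X : Type*} [Group X]
    (f : X →* GL (Fin 3) F) (hf : Function.Injective f) (E : Subgroup X)
    (hEc : ∀ a ∈ E, ∀ b ∈ E, a * b = b * a) (hE2 : ∀ a ∈ E, a * a = 1) (hE8 : Nat.card ↥E = 8) :
    (∀ x y : X, (∀ a ∈ E, x * a = a * x) → (∀ a ∈ E, y * a = a * y) → x * y = y * x) ∧
    (∀ x : X, (∀ a ∈ E, x * a = a * x) → x * x = 1 → x ∈ E) ∧
    ∃ u ∈ E, (∀ x : X, u * x = x * u) ∧
      (Matrix.GeneralLinearGroup.det (f u) : F) = -1 := by
  classical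
  haveI : Finite E := (Nat.card_ne_zero.1 (by omega)).2
  let M : E → Matrix (Fin 3) (Fin 3) F := fun a => ((f a.1 : GL (Fin 3) F) : Matrix (Fin 3) (Fin 3) F)
  have hMsq : ∀ a, M a * M a = 1 := fun a => by
    change ((f a.1 : GL (Fin 3) F) : Matrix (Fin 3) (Fin 3) F) * _ = 1
    rw [← Units.val_mul, ← map_mul, hE2 _ a.2, map_one, Units.val_one]
  have hMc : ∀ a b, M a * M b = M b * M a := fun a b => by
    change ((f a.1 : GL (Fin 3) F) : Matrix (Fin 3) (Fin 3) F) * _ = _
    rw [← Units.val_mul, ← map_mul, hEc _ a.2 _ b.2, map_mul, Units.val_mul]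
  obtain ⟨b, s, hs, hpm, hdet⟩ := TwoRank.exists_eigenbasis h2 M hMsq hMc
  have hinj : Function.Injective s := fun a a' h => Subtype.ext (hf (Units.ext
    (TwoRank.eq_of_eigen M b s hs fun i => congrFun h i)))
  -- every sign function occurs
  have hsurj : ∀ t : Fin 3 → Bool, ∃ a : E, ∀ i, s a i = if t i then 1 else -1 := by
    have hb : Function.Bijective fun (a : E) (i : Fin 3) => decide (s a i = 1) := by
      haveI := Fintype.ofFinite E
      refine (Fintype.bijective_iff_injective_and_card _).2 ⟨fun a a' h => hinj (funext fun i => ?_), ?_⟩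
      · have hi : decide (s a i = 1) = decide (s a' i = 1) := congrFun h i
        rw [decide_eq_decide] at hi
        rcases hpm a i with e | e <;> rcases hpm a' i with e' | e'
        · rw [e, e']
        · rw [e, hi.1 e]
        · rw [e', hi.2 e']
        · rw [e, e']
      · rw [← Nat.card_eq_fintype_card, hE8]
        simp
    intro t
    obtain ⟨a, ha⟩ := hb.2 t
    refine ⟨a, fun i => ?_⟩
    have hi : decide (s a i = 1) = t i := congrFun ha i
    rcases hpm a i with e | e
    · rw [if_pos (by rw [← hi]; simp [e]), e]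
    · by_cases h1 : s a i = 1
      · rw [if_pos (by rw [← hi]; simp [h1]), h1]
      · rw [if_neg (by rw [← hi]; simp [h1]), e]
  have hone : (1 : F) ≠ -1 := fun h => h2 (by linear_combination h)
  -- elements centralizing `E` are diagonal
  have hdiag : ∀ x : X, (∀ a ∈ E, x * a = a * x) → ∀ i, ∃ c : F,
      ((f x : GL (Fin 3) F) : Matrix (Fin 3) (Fin 3) F) *ᵥ b i = c • b i := by
    intro x hx i
    set w := ((f x : GL (Fin 3) F) : Matrix (Fin 3) (Fin 3) F) *ᵥ b i
    refine ⟨b.repr w i, b.repr.injective (Finsupp.ext fun j => ?_)⟩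
    rw [map_smul, b.repr_self, Finsupp.smul_apply, Finsupp.single_apply]
    by_cases hij : i = j
    · subst hij; simp
    rw [if_neg hij, smul_zero]
    obtain ⟨a, ha⟩ := hsurj fun k => decide (k = i)
    have hw : M a *ᵥ w = w := by
      change M a *ᵥ (((f x : GL (Fin 3) F) : Matrix (Fin 3) (Fin 3) F) *ᵥ b i) = _
      rw [mulVec_mulVec, show M a * ((f x : GL (Fin 3) F) : Matrix (Fin 3) (Fin 3) F) =
        ((f x : GL (Fin 3) F) : Matrix (Fin 3) (Fin 3) F) * M a by
          change ((f a.1 : GL (Fin 3) F) : Matrix (Fin 3) (Fin 3) F) * _ = _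
          rw [← Units.val_mul, ← map_mul, ← hx _ a.2, map_mul, Units.val_mul],
        ← mulVec_mulVec, hs, ha i]
      simp [w]
    have h1 : b.repr (M a *ᵥ w) j = s a j * b.repr w j := by
      conv_lhs => rw [← b.sum_repr w, Matrix.mulVec_sum, map_sum, Finsupp.finsetSum_apply]
      rw [Finset.sum_eq_single j]
      · rw [mulVec_smul, hs, smul_smul, map_smul, b.repr_self, Finsupp.smul_apply,
          Finsupp.single_eq_same, smul_eq_mul, mul_one, mul_comm]
      · intro k _ hk
        rw [mulVec_smul, hs, smul_smul, map_smul, b.repr_self, Finsupp.smul_apply,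
          Finsupp.single_eq_of_ne (by exact Ne.symm hk), smul_zero]
      · simp
    rw [hw, ha j, if_neg (by simpa using Ne.symm hij)] at h1
    have h3 : (2 : F) * b.repr w j = 0 := by linear_combination h1
    exact (mul_eq_zero.1 h3).resolve_left h2
  have hext : ∀ x y : X, (∀ i, ((f x : GL (Fin 3) F) : Matrix (Fin 3) (Fin 3) F) *ᵥ b i =
      ((f y : GL (Fin 3) F) : Matrix (Fin 3) (Fin 3) F) *ᵥ b i) → x = y := fun x y h =>
    hf (Units.ext (Matrix.toLin'.injective (b.ext fun i => h i)))
  refine ⟨fun x y hx hy => hext _ _ fun i => ?_, fun x hx hx2 => ?_, ?_⟩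
  · obtain ⟨c, hc⟩ := hdiag x hx i
    obtain ⟨d, hd⟩ := hdiag y hy i
    rw [map_mul, map_mul, Units.val_mul, Units.val_mul, ← mulVec_mulVec, ← mulVec_mulVec, hc, hd,
      mulVec_smul, mulVec_smul, hc, hd, smul_smul, smul_smul, mul_comm]
  · choose c hc using hdiag x hx
    have hc2 : ∀ i, c i = 1 ∨ c i = -1 := by
      intro i
      have h : (c i * c i) • b i = (1 : F) • b i := by
        rw [one_smul, mul_smul, ← hc i, ← mulVec_smul, ← hc i, mulVec_mulVec, ← Units.val_mul,
          ← map_mul, hx2, map_one, Units.val_one, one_mulVec]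
      exact mul_self_eq_one_iff.1 (smul_left_injective F (b.ne_zero i) h)
    obtain ⟨a, ha⟩ := hsurj fun i => decide (c i = 1)
    have : x = a.1 := hext _ _ fun i => by
      rw [hc i]
      change _ = M a *ᵥ b i
      rw [hs, ha i]
      rcases hc2 i with e | e <;> simp [e, hone.symm]
    exact this ▸ a.2
  · obtain ⟨a, ha⟩ := hsurj fun _ => false
    have hau : ((f a.1 : GL (Fin 3) F) : Matrix (Fin 3) (Fin 3) F) = -1 := by
      refine Matrix.toLin'.injective (b.ext fun i => ?_)
      rw [Matrix.toLin'_apply, Matrix.toLin'_apply]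
      change M a *ᵥ b i = _
      rw [hs, ha i]
      simp [Matrix.neg_mulVec]
    refine ⟨a.1, a.2, fun x => hf (Units.ext ?_), ?_⟩
    · rw [map_mul, map_mul, Units.val_mul, Units.val_mul, hau, neg_one_mul, mul_neg_one]
    · rw [Matrix.GeneralLinearGroup.val_det_apply, hau, Matrix.det_neg, Matrix.det_one,
        Fintype.card_fin]
      norm_num

/-- The transfer argument. -/
theorem abelian_of_no_index_two {G : Type*} [Group G] [Finite G] (hG : ∀ H : Subgroup G, H.index ≠ 2)
    (X : Sylow 2 G) {F : Type*} [Field F] [Finite F] (h2 : (2 : F) ≠ 0)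
    (f : ↥(X : Subgroup G) →* GL (Fin 3) F) (hf : Function.Injective f) (E : Subgroup ↥(X : Subgroup G))
    (hEc : ∀ a ∈ E, ∀ b ∈ E, a * b = b * a) (hE2 : ∀ a ∈ E, a * a = 1) (hE8 : Nat.card ↥E = 8) :
    IsMulCommutative (X : Subgroup G) := by
  classical
  haveI : Fact (Nat.Prime 2) := ⟨Nat.prime_two⟩
  obtain ⟨hdiag, hinvol, u, huE, hucen, hudet⟩ := eight_data h2 f hf E hEc hE2 hE8
  by_contra hna
  let ψ : ↥(X : Subgroup G) →* Fˣ := (Matrix.GeneralLinearGroup.det (n := Fin 3) (R := F)).comp f
  have hψu : ψ u = -1 := Units.ext (by rw [Units.val_neg, Units.val_one]; exact hudet)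
  have hneg : (-1 : Fˣ) ≠ 1 := fun h => h2 (by
    have h' := congrArg Units.val h
    rw [Units.val_neg, Units.val_one] at h'
    linear_combination (-1 : F) * h')
  -- the central involutions
  let Z : Subgroup ↥(X : Subgroup G) :=
    { carrier := {x | x ∈ Subgroup.center ↥(X : Subgroup G) ∧ x * x = 1}
      one_mem' := ⟨one_mem _, one_mul 1⟩
      mul_mem' := fun {a b} ha hb => ⟨mul_mem ha.1 hb.1, by
        have hab : b * a = a * b := (Subgroup.mem_center_iff.1 ha.1 b)
        calc a * b * (a * b) = a * (b * a) * b := by group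
          _ = (a * a) * (b * b) := by rw [hab]; group
          _ = 1 := by rw [ha.2, hb.2, one_mul]⟩
      inv_mem' := fun {a} ha => ⟨inv_mem ha.1, by rw [← _root_.mul_inv_rev, ha.2, inv_one]⟩ }
  have hZE : Z ≤ E := fun x hx =>
    hinvol x (fun a _ => (Subgroup.mem_center_iff.1 hx.1 a).symm) hx.2
  have hZlt : Z ≠ E := by
    intro h
    apply hna
    refine ⟨⟨fun x y => hdiag x y (fun a ha => ?_) (fun a ha => ?_)⟩⟩ <;>
    · rw [← h] at ha
      exact Subgroup.mem_center_iff.1 ha.1 _
  have huZ : u ∈ Z := ⟨Subgroup.mem_center_iff.2 fun x => (hucen x).symm, hE2 u huE⟩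
  obtain ⟨c, hcC, hcZ, hc1⟩ : ∃ c ∈ commutator ↥(X : Subgroup G), c ∈ Z ∧ c ≠ 1 := by
    have hne : commutator ↥(X : Subgroup G) ≠ ⊥ := by
      intro h
      apply hna
      refine ⟨⟨fun x y => commutatorElement_eq_one_iff_mul_comm.1 ?_⟩⟩
      rw [← Subgroup.mem_bot, ← h, commutator_def]
      exact Subgroup.commutator_mem_commutator (Subgroup.mem_top x) (Subgroup.mem_top y)
    have hp : IsPGroup 2 ↥(X : Subgroup G) := X.2
    have hne' := Cfsg.Agent.PGroup.inf_center_ne_bot hp hne
    haveI : Nontrivial ↥(commutator ↥(X : Subgroup G) ⊓ Subgroup.center ↥(X : Subgroup G)) :=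
      (Subgroup.nontrivial_iff_ne_bot _).2 hne'
    obtain ⟨k, hk⟩ := (hp.to_subgroup
      (commutator ↥(X : Subgroup G) ⊓ Subgroup.center ↥(X : Subgroup G))).exists_card_eq
    obtain ⟨⟨c, hc⟩, hco⟩ := exists_prime_orderOf_dvd_card'
      (G := ↥(commutator ↥(X : Subgroup G) ⊓ Subgroup.center ↥(X : Subgroup G))) 2 (by
        have h1 : 1 < Nat.card ↥(commutator ↥(X : Subgroup G) ⊓
          Subgroup.center ↥(X : Subgroup G)) := Finite.one_lt_card
        rw [hk] at h1 ⊢
        exact dvd_pow_self 2 fun h0 => by simp [h0] at h1)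
    rw [← Subgroup.orderOf_coe] at hco
    change orderOf c = 2 at hco
    exact ⟨c, hc.1, ⟨hc.2, by
      have h := pow_orderOf_eq_one c
      rwa [hco, pow_two] at h⟩,
      fun h => by rw [h, orderOf_one] at hco; omega⟩
  have hψc : ψ c = 1 := Abelianization.commutator_subset_ker ψ hcC
  have hcard : Nat.card ↥Z ≤ 4 := by
    obtain ⟨k, hk⟩ := Subgroup.card_dvd_of_le hZE
    rw [hE8] at hk
    have hk1 : k ≠ 1 := fun h1 => hZlt (Subgroup.eq_of_le_of_card_ge hZE (by rw [hE8, hk, h1, mul_one]))
    have hk0 : k ≠ 0 := fun h0 => by rw [h0, mul_zero] at hk; omega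
    have : 2 ≤ k := by omega
    nlinarith
  have hfour : ∀ x ∈ Z, x = 1 ∨ x = c ∨ x = u ∨ x = c * u := by
    intro x hx
    by_contra hcon
    push Not at hcon
    obtain ⟨hx1, hx2, hx3, hx4⟩ := hcon
    have huc : u ≠ c := fun h => hneg (by rw [← hψu, h, hψc])
    have hu1 : u ≠ 1 := fun h => hneg (by rw [← hψu, h, map_one])
    have hcu1 : c * u ≠ 1 := fun h => hneg (by
      have := congrArg ψ h
      rwa [map_mul, hψc, one_mul, hψu, map_one] at this)
    have hcuc : c * u ≠ c := fun h => hu1 (mul_eq_left.1 h)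
    have hcuu : c * u ≠ u := fun h => hc1 (mul_eq_right.1 h)
    have hcard5 : ({1, c, u, c * u, x} : Finset ↥(X : Subgroup G)).card = 5 := by
      simp [hc1.symm, hu1.symm, hcu1.symm, hx1.symm, huc.symm, hcuc.symm, hx2.symm, hcuu.symm,
        hx3.symm, hx4.symm]
    have hsub : (({1, c, u, c * u, x} : Finset ↥(X : Subgroup G)) : Set ↥(X : Subgroup G)) ⊆ Z := by
      intro y hy
      simp only [Finset.coe_insert, Finset.coe_singleton, Set.mem_insert_iff,
        Set.mem_singleton_iff] at hy
      rcases hy with rfl | rfl | rfl | rfl | rfl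
      · exact one_mem Z
      · exact hcZ
      · exact huZ
      · exact mul_mem hcZ huZ
      · exact hx
    have := Set.ncard_le_ncard hsub (Set.toFinite _)
    rw [Set.ncard_coe_finset, hcard5] at this
    have h' : Nat.card ↥Z = (Z : Set ↥(X : Subgroup G)).ncard := Nat.card_coe_set_eq _
    omega
  -- conjugation by the normalizer fixes `u`
  have hfixu : ∀ g : G, (∀ x : ↥(X : Subgroup G), g⁻¹ * (x : G) * g ∈ (X : Subgroup G)) →
      g⁻¹ * (u : G) * g = u := by
    intro g hg
    let φ : ↥(X : Subgroup G) →* ↥(X : Subgroup G) :=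
      { toFun := fun x => ⟨g⁻¹ * (x : G) * g, hg x⟩
        map_one' := Subtype.ext (by simp)
        map_mul' := fun x y => Subtype.ext (by simp only [Subgroup.coe_mul]; group) }
    have hφinj : Function.Injective φ := fun x y h => Subtype.ext (by
      have h' : g⁻¹ * (x : G) * g = g⁻¹ * (y : G) * g := congrArg Subtype.val h
      exact mul_left_cancel (mul_right_cancel h'))
    have hφsurj : Function.Surjective φ := Finite.injective_iff_surjective.1 hφinj
    have hφZ : ∀ x ∈ Z, φ x ∈ Z := fun x hx => ⟨Subgroup.mem_center_iff.2 fun y => by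
      obtain ⟨y', rfl⟩ := hφsurj y
      rw [← map_mul, ← map_mul, Subgroup.mem_center_iff.1 hx.1 y'], by rw [← map_mul, hx.2, map_one]⟩
    have hφc : φ c = c := by
      have hker : ψ (φ c) = 1 := Abelianization.commutator_subset_ker (ψ.comp φ) hcC
      rcases hfour _ (hφZ c hcZ) with h | h | h | h
      · exact absurd (hφinj (h.trans (map_one φ).symm)) hc1
      · exact h
      · exact absurd (by rw [← hψu, ← h, hker]) hneg
      · exact absurd (by rw [h, map_mul, hψc, one_mul, hψu] at hker; exact hker) hneg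
    have hφu : φ u = u ∨ (φ u = c * u ∧ φ (φ u) = u) := by
      rcases hfour _ (hφZ u huZ) with h | h | h | h
      · exact absurd (hφinj (h.trans (map_one φ).symm)) (fun h' => hneg (by rw [← hψu, h', map_one]))
      · exact absurd (hφinj (h.trans hφc.symm)) (fun h' => hneg (by rw [← hψu, h', hψc]))
      · exact Or.inl h
      · refine Or.inr ⟨h, ?_⟩
        rw [h, map_mul, hφc, h, ← mul_assoc, hcZ.2, one_mul]
    rcases hφu with h | ⟨-, h⟩
    · exact congrArg Subtype.val h
    -- an odd power of `g` lies in `X`, up to elements fixing `u`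
    have h2fix : g⁻¹ * (g⁻¹ * (u : G) * g) * g = u := congrArg Subtype.val h
    set d := orderOf g
    obtain ⟨a, m, hm, hd⟩ := Nat.exists_eq_two_pow_mul_odd (orderOf_pos g).ne'
    have hnorm : g ∈ Subgroup.normalizer ((X : Subgroup G) : Set G) := by
      rw [Subgroup.mem_normalizer_iff]
      intro y
      constructor
      · intro hy
        obtain ⟨x, hx⟩ := hφsurj ⟨y, hy⟩
        have hxy : g⁻¹ * (x : G) * g = y := congrArg Subtype.val hx
        rw [← hxy]
        convert x.2 using 1
        group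
      · intro hy
        have := hg ⟨_, hy⟩
        simpa [mul_assoc] using this
    have hmem : g ^ m ∈ (X : Subgroup G) := by
      have hp2 : IsPGroup 2 ↥(Subgroup.zpowers (g ^ m)) := by
        refine IsPGroup.of_card (n := a) ?_
        rw [Nat.card_zpowers, orderOf_pow_of_dvd (by intro h0; subst h0; exact (Nat.not_odd_zero hm))
          ⟨2 ^ a, by rw [hd]; ring⟩, hd, Nat.mul_div_cancel _ (Nat.pos_of_ne_zero (by
            intro h0; subst h0; exact (Nat.not_odd_zero hm)))]
      have hsup : IsPGroup 2 ↥(Subgroup.zpowers (g ^ m) ⊔ (X : Subgroup G)) :=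
        hp2.to_sup_of_normal_right' X.2 (Subgroup.zpowers_le.2 (pow_mem hnorm m))
      exact (X.3 hsup le_sup_right).le (le_sup_left (α := Subgroup G) (Subgroup.mem_zpowers _))
    have hcomm : Commute (g ^ m) (u : G) :=
      (congrArg Subtype.val (hucen ⟨_, hmem⟩)).symm
    obtain ⟨j, hj⟩ := hm
    have hg2 : Commute (g ^ 2) (u : G) := by
      have h' : (g ^ 2)⁻¹ * (u : G) * g ^ 2 = u := by
        rw [pow_two]
        conv_rhs => rw [← h2fix]
        group
      calc g ^ 2 * (u : G) = g ^ 2 * ((g ^ 2)⁻¹ * (u : G) * g ^ 2) := by rw [h']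
        _ = (u : G) * g ^ 2 := by group
    have hgu : Commute g (u : G) := by
      have h1 : g = (g ^ 2) ^ (-(j : ℤ)) * g ^ m := by
        rw [hj, ← zpow_natCast g (2 * j + 1), ← zpow_natCast g 2, ← _root_.zpow_mul, ← _root_.zpow_add]
        conv_lhs => rw [← zpow_one g]
        congr 1
        push_cast
        ring
      rw [h1]
      exact (hg2.zpow_left _).mul_left hcomm
    rw [mul_assoc, ← hgu.eq, inv_mul_cancel_left]
  -- the transfer at `u`
  letI : Fintype (G ⧸ (X : Subgroup G)) := Fintype.ofFinite _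
  have huord : orderOf (u : G) = 2 := by
    refine orderOf_eq_prime ?_ (fun h => hneg ?_)
    · rw [pow_two, ← Subgroup.coe_mul, hE2 u huE, Subgroup.coe_one]
    · rw [← hψu, show u = 1 from Subtype.ext h, map_one]
  have hV : MonoidHom.transfer ψ (u : G) = -1 := by
    rw [transfer_eq_prod_cosetVal ψ (u : G) (fun h hd hne => by
      rw [huord] at hd hne
      rcases (Nat.dvd_prime Nat.prime_two).1 hd with h1 | h2'
      · rw [show h = 1 from Subtype.ext (orderOf_eq_one_iff.1 h1), map_one]
      · exact absurd h2' hne)]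
    have hinv : ∀ (w : (X : Subgroup G)) (x : G ⧸ (X : Subgroup G)),
        cosetVal ψ (u : G) (w • x) = cosetVal ψ (u : G) x := by
      intro w x
      change cosetVal ψ (u : G) ((w : G) • x) = _
      rw [← cosetVal_smul, show (w : G)⁻¹ * (u : G) * w = u by
        rw [mul_assoc, show (u : G) * w = w * u from congrArg Subtype.val (hucen w),
          inv_mul_cancel_left]]
    have hsq : ∀ x, cosetVal ψ (u : G) x ^ 2 = 1 := by
      intro x
      unfold cosetVal
      split
      · rw [← map_pow]
        convert map_one ψ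
        refine Subtype.ext ?_
        rw [pow_two]
        change x.out⁻¹ * (u : G) * x.out * (x.out⁻¹ * (u : G) * x.out) = 1
        calc _ = x.out⁻¹ * ((u : G) * u) * x.out := by group
          _ = 1 := by rw [← Subgroup.coe_mul, hE2 u huE, Subgroup.coe_one]; group
      · exact one_pow _
    let p : G ⧸ (X : Subgroup G) →
        Quotient (MulAction.orbitRel ↥(X : Subgroup G) (G ⧸ (X : Subgroup G))) := Quotient.mk _
    letI : Fintype (Quotient (MulAction.orbitRel ↥(X : Subgroup G) (G ⧸ (X : Subgroup G)))) :=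
      Fintype.ofFinite _
    rw [← Finset.prod_fiberwise Finset.univ p]
    have horb : ∀ o, ∏ x ∈ Finset.univ.filter (fun x => p x = o), cosetVal ψ (u : G) x =
        (-1) ^ (Finset.univ.filter (fun x => p x = o)).card := by
      intro o
      obtain ⟨x₀, rfl⟩ := Quotient.exists_rep o
      have hfib : ∀ x ∈ Finset.univ.filter (fun x => p x = Quotient.mk _ x₀),
          cosetVal ψ (u : G) x = cosetVal ψ (u : G) x₀ := by
        intro x hx
        obtain ⟨w, hw⟩ : x ∈ MulAction.orbit ↥(X : Subgroup G) x₀ := by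
          rw [← MulAction.orbitRel_apply]
          exact Quotient.exact (Finset.mem_filter.1 hx).2
        rw [← hw, hinv]
      rw [Finset.prod_congr rfl hfib, Finset.prod_const]
      have hcard' : (Finset.univ.filter (fun x => p x = Quotient.mk _ x₀)).card =
          Nat.card ↥(MulAction.orbit ↥(X : Subgroup G) x₀) := by
        rw [Nat.card_eq_fintype_card, ← Set.toFinset_card]
        congr 1
        ext x
        rw [Finset.mem_filter, Set.mem_toFinset, ← MulAction.orbitRel_apply]
        exact ⟨fun h => Quotient.exact h.2, fun h => ⟨Finset.mem_univ _, Quotient.sound h⟩⟩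
      rw [hcard']
      obtain ⟨k, hk⟩ := (show IsPGroup 2 ↥(X : Subgroup G) from X.2).card_orbit x₀
      rw [hk]
      rcases Nat.eq_zero_or_pos k with rfl | hk0
      · have hfix : ∀ w : ↥(X : Subgroup G), (w : G) • x₀ = x₀ := by
          intro w
          rw [pow_zero] at hk
          haveI := (Nat.card_eq_one_iff_unique.1 hk).1
          exact congrArg Subtype.val (Subsingleton.elim
            (⟨w • x₀, MulAction.mem_orbit _ _⟩ : MulAction.orbit ↥(X : Subgroup G) x₀)
            ⟨x₀, MulAction.mem_orbit_self _⟩)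
        have hgu := hfixu x₀.out fun w => conj_out_mem (hfix w)
        rw [pow_zero, pow_one, pow_one, cosetVal, dif_pos (hfix u)]
        exact (congrArg ψ (Subtype.ext hgu)).trans hψu
      · obtain ⟨i, hi⟩ : 2 ∣ 2 ^ k := dvd_pow_self 2 (by omega)
        rw [hi, pow_mul, hsq, one_pow, pow_mul, neg_one_sq, one_pow]
    rw [Finset.prod_congr rfl (fun o _ => horb o), Finset.prod_pow_eq_pow_sum,
      ← Finset.card_eq_sum_card_fiberwise (fun x _ => Finset.mem_univ (p x)), Finset.card_univ]
    refine Odd.neg_one_pow ?_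
    rw [← Nat.card_eq_fintype_card, Nat.odd_iff]
    have hodd := X.not_dvd_index
    change Nat.card (G ⧸ (X : Subgroup G)) % 2 = 1
    rw [Subgroup.index] at hodd
    omega
  set V := MonoidHom.transfer ψ
  have hcyc : IsCyclic V.range := inferInstance
  letI := IsCyclic.commGroup (α := V.range)
  have hev : 2 ∣ Nat.card V.range := by
    have h := orderOf_dvd_natCard (⟨(-1 : Fˣ), u, hV⟩ : V.range)
    rwa [← Subgroup.orderOf_coe, orderOf_eq_prime (show (-1 : Fˣ) ^ 2 = 1 from neg_one_sq) hneg] at h
  refine hG ((powMonoidHom 2 : V.range →* V.range).range.comap V.rangeRestrict) ?_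
  rw [Subgroup.index_comap_of_surjective _ V.rangeRestrict_surjective,
    IsCyclic.index_powMonoidHom_range]
  exact Nat.gcd_eq_right hev

end Cfsg.Agent.DetTransfer
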